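import Mathlib

/-!
# Closed points of the generic fibre specialising to a given closed point
-/

set_option autoImplicit false
set_option linter.style.haveILetI false

universe u

open Polynomial

namespace GrothLib.GenericSpec

/-- If all nonzero primes contain one element, then the only nonzero prime is the maximal ideal. -/
theorem eq_maximalIdeal_of_forall_mem {T : Type u} [CommRing T] [IsDomain T] [IsLocalRing T]
    [IsNoetherianRing T] {π : T} (hπ0 : π ≠ 0) (h : ∀ q : Ideal T, q.IsPrime → q ≠ ⊥ → π ∈ q) {q : Ideal T} [hq : q.IsPrime]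
    (h0 : q ≠ ⊥) : q = IsLocalRing.maximalIdeal T := by
  by_contra hne
  have hlt : q < IsLocalRing.maximalIdeal T := lt_of_le_of_ne (IsLocalRing.le_maximalIdeal hq.ne_top) hne
  have hmin : ∀ p : Ideal T, p.IsPrime → p.height ≤ 1 → p ≠ ⊥ → p ∈ (Ideal.span {π}).minimalPrimes := by
    intro p hp hh hp0
    obtain ⟨p₀, hp₀, hle⟩ := Ideal.exists_minimalPrimes_le (show Ideal.span {π} ≤ p from
      (Ideal.span_singleton_le_iff_mem _).2 (h p hp hp0))
    rcases hle.lt_or_eq with hl | rfl
    · exfalso
      haveI := hp₀.isPrime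
      haveI := hp
      have h1 : p₀.height < p.height := Ideal.height_strict_mono_of_isPrime_of_isPrime hl
      have h3 : p₀ = ⊥ := Ideal.height_eq_zero_iff_eq_bot.1 (Order.lt_one_iff.1 (h1.trans_le hh))
      have hπ : π ∈ p₀ := hp₀.le (Ideal.mem_span_singleton_self π)
      rw [h3, Ideal.mem_bot] at hπ
      exact hπ0 hπ
    · exact hp₀
  have hsub : (IsLocalRing.maximalIdeal T : Set T) ⊆ ⋃ p ∈ (Ideal.span {π}).minimalPrimes, (p : Set T) := by
    intro x hx
    rcases eq_or_ne x 0 with rfl | hx0
    · obtain ⟨p, hp, -⟩ := Ideal.exists_minimalPrimes_le (show Ideal.span {π} ≤ q from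
        (Ideal.span_singleton_le_iff_mem _).2 (h q hq h0))
      exact Set.mem_biUnion hp p.zero_mem
    · obtain ⟨p, hp, -⟩ := Ideal.exists_minimalPrimes_le
        (show Ideal.span {x} ≤ IsLocalRing.maximalIdeal T from (Ideal.span_singleton_le_iff_mem _).2 hx)
      have hxp : x ∈ p := hp.le (Ideal.mem_span_singleton_self x)
      refine Set.mem_biUnion (hmin p hp.isPrime (Ideal.height_le_one_of_isPrincipal_of_mem_minimalPrimes _ p hp) ?_) hxp
      rintro rfl
      exact hx0 hxp
  obtain ⟨p, hp, hle⟩ := (Ideal.subset_union_prime_finite (Ideal.finite_minimalPrimes_of_isNoetherianRing T _) q q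
    (fun i hi _ _ => hi.isPrime)).1 hsub
  haveI := hp.isPrime
  have hpm : p = IsLocalRing.maximalIdeal T := le_antisymm (IsLocalRing.le_maximalIdeal hp.isPrime.ne_top) hle
  have h1 : q.height < p.height := Ideal.height_strict_mono_of_isPrime_of_isPrime (hpm ▸ hlt)
  exact h0 (Ideal.height_eq_zero_iff_eq_bot.1
    (Order.lt_one_iff.1 (h1.trans_le (Ideal.height_le_one_of_isPrincipal_of_mem_minimalPrimes _ p hp))))

/-- A finite type algebra over a Dedekind domain has, below a closed point, a prime of the generic fibre with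
algebraic quotient. -/
theorem exists_prime (R S : Type u) [CommRing R] [IsDedekindDomain R] [CommRing S] [Algebra R S]
    [Algebra.FiniteType R S] (m' : Ideal S) [m'.IsMaximal] (hm : (m'.comap (algebraMap R S)).IsMaximal)
    (P₀ : Ideal S) [P₀.IsPrime] (hP₀ : P₀ ≤ m') (hP₀R : P₀.comap (algebraMap R S) = ⊥) :
    ∃ P : Ideal S, P.IsPrime ∧ P ≤ m' ∧ P.comap (algebraMap R S) = ⊥ ∧
      ∀ b : S, ∃ p : R[X], p ≠ 0 ∧ aeval b p ∈ P := by
  haveI : IsNoetherianRing S := Algebra.FiniteType.isNoetherianRing R S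
  obtain ⟨P, ⟨hP, hle', hPR⟩, hmax⟩ := set_has_maximal_iff_noetherian.2 (inferInstanceAs (IsNoetherian S S))
    {P : Ideal S | P.IsPrime ∧ P ≤ m' ∧ P.comap (algebraMap R S) = ⊥} ⟨P₀, inferInstance, hP₀, hP₀R⟩
  refine ⟨P, hP, hle', hPR, ?_⟩
  let m := m'.comap (algebraMap R S)
  have hmeet : ∀ q : Ideal S, q.IsPrime → P < q → q ≤ m' → q.comap (algebraMap R S) = m := by
    intro q hq hlt hqm
    haveI := hq.comap (algebraMap R S)
    have h : q.comap (algebraMap R S) ≠ ⊥ := fun h => hmax q ⟨hq, hqm, h⟩ hlt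
    exact (Ideal.IsPrime.isMaximal inferInstance h).eq_of_le hm.ne_top (Ideal.comap_mono hqm)
  let S' := S ⧸ P
  let mk := algebraMap S S'
  let n : Ideal S' := m'.map mk
  have hmk : Function.Surjective mk := Ideal.Quotient.mk_surjective
  have hn : n.comap mk = m' := by
    rw [Ideal.comap_map_of_surjective _ hmk, sup_eq_left, ← RingHom.ker_eq_comap_bot]
    exact Ideal.mk_ker.le.trans hle'
  haveI : n.IsMaximal := by
    refine (Ideal.map_eq_top_or_isMaximal_of_surjective mk hmk ‹_›).resolve_left fun h => ?_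
    exact Ideal.IsMaximal.ne_top ‹m'.IsMaximal› (by rw [← hn]; exact (congrArg (Ideal.comap mk) h).trans Ideal.comap_top)
  -- nonzero primes below `n` are equal to `n`
  have hone : ∀ q : Ideal S', q.IsPrime → q ≤ n → q ≠ ⊥ → q = n := by
    intro q hq hqn hq0
    have hzero : ∀ q : Ideal S', q.IsPrime → q ≤ n → q ≠ ⊥ → (q.comap mk).comap (algebraMap R S) = m := by
      intro q hq hqn hq0
      refine hmeet _ (hq.comap mk) ?_ (hn ▸ Ideal.comap_mono hqn)
      refine lt_of_le_of_ne (Ideal.mk_ker.ge.trans (Ideal.ker_le_comap mk)) fun h => hq0 ?_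
      rw [← Ideal.map_comap_of_surjective mk hmk q, ← h]
      exact Ideal.map_quotient_self P
    rcases eq_or_ne m ⊥ with hm0 | hm0
    · exfalso
      have h := hzero q hq hqn hq0
      rw [hm0] at h
      refine hmax (q.comap mk) ⟨hq.comap mk, hn ▸ Ideal.comap_mono hqn, h⟩ ?_
      refine lt_of_le_of_ne (Ideal.mk_ker.ge.trans (Ideal.ker_le_comap mk)) fun h' => hq0 ?_
      rw [← Ideal.map_comap_of_surjective mk hmk q, ← h']
      exact Ideal.map_quotient_self P
    obtain ⟨r, hr, hr0⟩ := Submodule.exists_mem_ne_zero_of_ne_bot hm0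
    let T := Localization.AtPrime n
    let e := IsLocalization.AtPrime.orderIsoOfPrime T n
    haveI : IsNoetherianRing T := IsLocalization.isNoetherianRing n.primeCompl T inferInstance
    haveI : IsDomain T := IsLocalization.isDomain_localization n.primeCompl_le_nonZeroDivisors
    have key : ∀ Q : Ideal T, Q.IsPrime → Q ≠ ⊥ → algebraMap S' T (mk (algebraMap R S r)) ∈ Q := by
      intro Q hQ hQ0
      obtain ⟨hQp, hQn⟩ := (e ⟨Q, hQ⟩).2
      have h0 : (e ⟨Q, hQ⟩).1 ≠ ⊥ := fun h => hQ0 (by
        rw [← IsLocalization.map_comap n.primeCompl T Q]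
        exact (congrArg (Ideal.map (algebraMap S' T)) h).trans Ideal.map_bot)
      exact ((hzero _ hQp hQn h0).ge hr : r ∈ ((e ⟨Q, hQ⟩).1.comap mk).comap (algebraMap R S))
    let Q := e.symm ⟨q, hq, hqn⟩
    haveI := Q.2
    have hQ0 : Q.1 ≠ ⊥ := fun h => hq0 (by
      have h1 : (e Q).1 = q := congrArg Subtype.val (e.apply_symm_apply _)
      rw [← h1]
      refine (congrArg (Ideal.comap (algebraMap S' T)) h).trans ?_
      exact Ideal.comap_bot_of_injective _ (IsLocalization.injective T n.primeCompl_le_nonZeroDivisors))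
    have hne0 : algebraMap S' T (mk (algebraMap R S r)) ≠ 0 := fun h => hr0 (by
      rw [map_eq_zero_iff _ (IsLocalization.injective T n.primeCompl_le_nonZeroDivisors)] at h
      exact (Ideal.mem_bot).1 (hPR.le (Ideal.Quotient.eq_zero_iff_mem.1 h : algebraMap R S r ∈ P)))
    have h2 := eq_maximalIdeal_of_forall_mem hne0 key hQ0
    have h1 : (e Q).1 = q := congrArg Subtype.val (e.apply_symm_apply _)
    rw [← h1]
    exact (congrArg (Ideal.comap (algebraMap S' T)) h2).trans (IsLocalization.AtPrime.comap_maximalIdeal T n)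
  -- `n` is isolated in its fibre
  let p : PrimeSpectrum R := PrimeSpectrum.comap (algebraMap R S') ⟨n, inferInstance⟩
  have hiso : IsOpen (X := PrimeSpectrum.comap (algebraMap R S') ⁻¹' {p})
      {⟨⟨n, inferInstance⟩, rfl⟩} := by
    classical
    let I : Ideal S' := (p.asIdeal).map (algebraMap R S')
    have hfin := Ideal.finite_minimalPrimes_of_isNoetherianRing S' I
    obtain ⟨s, hs, hsn⟩ : ∃ s, s ∈ ⨅ q ∈ hfin.toFinset.erase n, q ∧ s ∉ n := by
      refine SetLike.not_le_iff_exists.1 fun hle => ?_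
      rw [← Finset.inf_eq_iInf] at hle
      obtain ⟨q, hq, hqn⟩ := (Ideal.IsPrime.inf_le' inferInstance).1 hle
      obtain ⟨hne, hq⟩ := Finset.mem_erase.1 hq
      rw [Set.Finite.mem_toFinset] at hq
      refine hne ?_
      rcases eq_or_ne q ⊥ with rfl | h0
      · have h2 : m'.comap (algebraMap R S) = ⊥ := by
          refine le_antisymm (fun a ha => ?_) bot_le
          have ha' : a ∈ n.comap (algebraMap R S') := by
            change algebraMap S S' (algebraMap R S a) ∈ n
            exact Ideal.mem_map_of_mem mk ha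
          have h3 : algebraMap R S' a ∈ (⊥ : Ideal S') := hq.le (Ideal.mem_map_of_mem (algebraMap R S') ha')
          have h4 : algebraMap R S a ∈ P :=
            Ideal.Quotient.eq_zero_iff_mem.1 (show Ideal.Quotient.mk P (algebraMap R S a) = 0 from h3)
          exact hPR.le h4
        have hPm : P = m' := (lt_or_eq_of_le hle').resolve_left fun hlt => hmax m' ⟨inferInstance, le_rfl, h2⟩ hlt
        exact (show (⊥ : Ideal S') = m'.map mk from hPm ▸ (Ideal.map_quotient_self P).symm)
      · exact hone q hq.isPrime hqn h0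
    rw [isOpen_induced_iff]
    refine ⟨PrimeSpectrum.basicOpen s, (PrimeSpectrum.basicOpen s).2, Set.ext fun x => ?_⟩
    constructor
    · intro hx
      have hxI : I ≤ x.1.asIdeal := Ideal.map_le_iff_le_comap.2 (congrArg PrimeSpectrum.asIdeal x.2).ge
      obtain ⟨q, hq, hqx⟩ := Ideal.exists_minimalPrimes_le hxI
      have hqn : q = n := by
        by_contra hne
        exact hx (hqx ((Submodule.mem_iInf _).1 ((Submodule.mem_iInf _).1 hs q)
          (Finset.mem_erase.2 ⟨hne, hfin.mem_toFinset.2 hq⟩)))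
      subst hqn
      exact Subtype.ext (PrimeSpectrum.ext ((Ideal.IsMaximal.eq_of_le ‹_› x.1.2.ne_top hqx).symm))
    · intro hx
      rw [Set.mem_singleton_iff.1 hx]
      exact hsn
  haveI : Algebra.QuasiFiniteAt R n := Algebra.QuasiFiniteAt.of_isOpen_singleton_fiber ⟨n, inferInstance⟩ hiso
  haveI : Algebra.QuasiFiniteAt R (⊥ : Ideal S') := Algebra.QuasiFiniteAt.of_le (Q := n) bot_le
  let L := Localization.AtPrime (⊥ : Ideal S')
  have hinjR : Function.Injective (algebraMap R S') := (injective_iff_map_eq_zero _).2 fun a ha => by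
    have : algebraMap R S a ∈ P :=
      Ideal.Quotient.eq_zero_iff_mem.1 (show Ideal.Quotient.mk P (algebraMap R S a) = 0 from ha)
    exact (Ideal.mem_bot).1 (hPR.le this)
  have hSL : Function.Injective (algebraMap S' L) :=
    IsLocalization.injective L (Ideal.primeCompl_le_nonZeroDivisors (⊥ : Ideal S'))
  haveI : IsDomain L := IsLocalization.isDomain_localization (Ideal.primeCompl_le_nonZeroDivisors (⊥ : Ideal S'))
  have hinj : Function.Injective (algebraMap R L) := by
    rw [IsScalarTower.algebraMap_eq R S' L]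
    exact hSL.comp hinjR
  let K := FractionRing R
  have hu : ∀ y : nonZeroDivisors R, IsUnit (algebraMap R L y) := fun y => by
    rw [IsScalarTower.algebraMap_apply R S' L]
    refine IsLocalization.map_units L (⟨algebraMap R S' y, ?_⟩ : (⊥ : Ideal S').primeCompl)
    exact fun h => nonZeroDivisors.coe_ne_zero y (hinjR (((Ideal.mem_bot).1 h).trans (map_zero _).symm))
  let _ : Algebra K L := (IsLocalization.lift (S := K) hu).toAlgebra
  haveI : IsScalarTower R K L := IsScalarTower.of_algebraMap_eq fun a => (IsLocalization.lift_eq hu a).symm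
  haveI : Algebra.QuasiFinite K L := Algebra.QuasiFinite.of_restrictScalars R K L
  haveI : Module.Finite K L := Module.Finite.of_quasiFinite
  intro b
  have halg : IsAlgebraic R (algebraMap S' L (mk b)) :=
    (IsFractionRing.isAlgebraic_iff R K L).2 (Algebra.IsAlgebraic.isAlgebraic _)
  obtain ⟨p, hp0, hp⟩ := halg
  refine ⟨p, hp0, ?_⟩
  rw [Polynomial.aeval_algebraMap_apply] at hp
  have h3 : aeval (mk b) p = 0 := hSL (hp.trans (map_zero _).symm)
  rw [Polynomial.aeval_algebraMap_apply] at h3
  exact Ideal.Quotient.eq_zero_iff_mem.1 h3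

end GrothLib.GenericSpec
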